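import Groth.Agent.Lib.ExtAdj.Basic

/-!
# Ext groups along an adjunction in a range of degrees
-/

set_option autoImplicit false
set_option backward.isDefEq.respectTransparency false

universe w w' v v' u u'

open CategoryTheory CategoryTheory.Limits CategoryTheory.Abelian

namespace GrothLib.AcyN18

open GrothLib.ExtAdj

variable {A : Type u} [Category.{v} A] [Abelian A] {B : Type u'} [Category.{v'} B] [Abelian B]
  [HasExt.{w} A] [HasExt.{w'} B] {L : A ⥤ B} {R : B ⥤ A} (adj : L ⊣ R)
  [L.Additive] [R.Additive] [PreservesFiniteLimits L] [PreservesFiniteColimits L]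

variable (X : A) (S : ShortComplex B)

/-- The sequence `R S₁ → R S₂ → coker`. -/
noncomputable abbrev imgSeq : ShortComplex A :=
  ShortComplex.mk (R.map S.f) (cokernel.π (R.map S.f)) (cokernel.condition _)

/-- The comparison of the image sequence with `R S₃`. -/
noncomputable abbrev imgCmp : (imgSeq (R := R) S).X₃ ⟶ R.obj S.X₃ :=
  cokernel.desc (R.map S.f) (R.map S.g) (by rw [← R.map_comp, S.zero, R.map_zero])

variable {S} (hS : S.ShortExact)

include adj hS in
theorem imgSeq_shortExact : (imgSeq (R := R) S).ShortExact ∧ Mono (imgCmp (R := R) S) := by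
  haveI : PreservesFiniteLimits R := (adj.rightAdjoint_preservesLimits : PreservesLimitsOfSize.{0, 0} R).preservesFiniteLimits
  haveI := hS.mono_f
  haveI : Mono (R.map S.f) := R.map_mono S.f
  refine ⟨{ exact := ShortComplex.exact_of_g_is_cokernel _ (cokernelIsCokernel _) }, ?_⟩
  exact (hS.exact.map_of_mono_of_preservesKernel R inferInstance inferInstance).mono_cokernelDesc

theorem adjMap_img {T : ShortComplex A} (hT : T = imgSeq (R := R) S) (hT' : (imgSeq (R := R) S).ShortExact)
    (c : X ⟶ (imgSeq (R := R) S).X₃) :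
    adjMap adj X S.X₁ 1 ((Ext.mk₀ c).comp hT'.extClass (zero_add 1)) =
      (Ext.mk₀ ((adj.homEquiv X S.X₃).symm (c ≫ imgCmp (R := R) S))).comp hS.extClass (zero_add 1) := by
  let b := imgCmp (R := R) S
  let φ : (imgSeq (R := R) S).map L ⟶ S :=
    { τ₁ := adj.counit.app S.X₁
      τ₂ := adj.counit.app S.X₂
      τ₃ := L.map b ≫ adj.counit.app S.X₃
      comm₁₂ := (adj.counit_naturality S.f).symm
      comm₂₃ := by
        change adj.counit.app S.X₂ ≫ S.g = L.map (cokernel.π (R.map S.f)) ≫ L.map b ≫ adj.counit.app S.X₃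
        rw [← L.map_comp_assoc, cokernel.π_desc]
        exact (adj.counit_naturality S.g).symm }
  have key : (hT'.map_of_exact L).extClass.comp (Ext.mk₀ (adj.counit.app S.X₁)) (add_zero 1) =
      (Ext.mk₀ (L.map b ≫ adj.counit.app S.X₃)).comp hS.extClass (zero_add 1) :=
    ShortComplex.ShortExact.extClass_naturality (hT'.map_of_exact L) hS φ
  rw [adjMap_apply, Ext.mapExactFunctor_comp, Ext.mapExactFunctor_mk₀, Ext.mapExactFunctor_extClass L hT',
    Ext.comp_assoc_of_third_deg_zero, key, Ext.mk₀_comp_mk₀_assoc, Adjunction.homEquiv_counit, L.map_comp,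
    Category.assoc]

variable [EnoughInjectives B]

include adj in
theorem injectiveR (I : B) [Injective I] : Injective (R.obj I) := by
  haveI : L.PreservesMonomorphisms := preservesMonomorphisms_of_preservesLimitsOfShape L
  exact Injective.injective_of_adjoint adj I

/-- Pulling back is injective in degree one. -/
theorem injective_adjMap_one (Y : B) : Function.Injective (adjMap adj X Y 1) := by
  let S : ShortComplex B := ShortComplex.mk (Injective.ι Y) (cokernel.π (Injective.ι Y)) (cokernel.condition _)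
  have hS : S.ShortExact := { exact := ShortComplex.exact_of_g_is_cokernel _ (cokernelIsCokernel _) }
  haveI : Injective S.X₂ := inferInstanceAs (Injective (Injective.under Y))
  obtain ⟨hT, hb⟩ := imgSeq_shortExact adj hS
  haveI : Injective (imgSeq (R := R) S).X₂ := injectiveR adj S.X₂
  refine (injective_iff_map_eq_zero _).2 fun a ha => ?_
  obtain ⟨c, rfl⟩ := Ext.covariant_sequence_exact₁ X hT a (Ext.eq_zero_of_injective _) (rfl : 0 + 1 = 1)
  obtain ⟨c, rfl⟩ := (Ext.mk₀_bijective _ _).2 c
  replace ha := (adjMap_img adj X hS rfl hT c).symm.trans ha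
  obtain ⟨z, hz⟩ := Ext.covariant_sequence_exact₃ _ hS _ rfl ha
  obtain ⟨z, rfl⟩ := (Ext.mk₀_bijective _ _).2 z
  rw [Ext.mk₀_comp_mk₀] at hz
  have hz' := congrArg (adj.homEquiv X S.X₃) ((Ext.mk₀_bijective _ _).1 hz)
  rw [Equiv.apply_symm_apply, Adjunction.homEquiv_naturality_right] at hz'
  have hc : c = adj.homEquiv X S.X₂ z ≫ (imgSeq (R := R) S).g := by
    rw [← cancel_mono (imgCmp (R := R) S), ← hz', Category.assoc, cokernel.π_desc]
  rw [hc, ← Ext.mk₀_comp_mk₀_assoc]
  exact (congrArg (fun e => (Ext.mk₀ (adj.homEquiv X S.X₂ z)).comp e (zero_add 1)) hT.comp_extClass).trans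
    (Ext.comp_zero _ _ _ _ _)

/-- Comparison in a range of degrees. -/
theorem adjMap_range : ∀ (n : ℕ) (Y : B), (∀ q : ℕ, q < n → IsZero ((R.rightDerived (q + 1)).obj Y)) →
    Function.Bijective (adjMap adj X Y n) ∧ Function.Injective (adjMap adj X Y (n + 1)) := by
  haveI : PreservesFiniteLimits R := (adj.rightAdjoint_preservesLimits : PreservesLimitsOfSize.{0, 0} R).preservesFiniteLimits
  haveI : R.IsRightAdjoint := adj.isRightAdjoint
  haveI : R.PreservesInjectiveObjects :=
    Functor.preservesInjectiveObjects_of_adjunction_of_preservesMonomorphisms adj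
  intro n
  induction n with
  | zero => exact fun Y _ => ⟨bijective_adjMap_zero adj X Y, injective_adjMap_one adj X Y⟩
  | succ n ih =>
    intro Y hY
    let S : ShortComplex B := ShortComplex.mk (Injective.ι Y) (cokernel.π (Injective.ι Y)) (cokernel.condition _)
    have hS : S.ShortExact :=
      { exact := ShortComplex.exact_of_g_is_cokernel _ (cokernelIsCokernel _) }
    haveI : Injective S.X₂ := inferInstanceAs (Injective (Injective.under Y))
    haveI : Injective (R.obj S.X₂) := R.injective_obj S.X₂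
    haveI : Injective (S.map R).X₂ := R.injective_obj S.X₂
    have hRS : (S.map R).ShortExact := GrothLib.HomGamma.shortExact_map_of_isZero R hS (hY 0 n.succ_pos)
    have h3 : ∀ q : ℕ, q < n → IsZero ((R.rightDerived (q + 1)).obj S.X₃) := fun q hq =>
      GrothSS.isZero_rightDerived_X₃ R q S hS (hY (q + 1) (Nat.succ_lt_succ hq))
        (R.isZero_rightDerived_obj_injective_succ q S.X₂)
    obtain ⟨hb, hi⟩ := ih S.X₃ h3
    refine ⟨⟨(ih Y fun q hq => hY q (hq.trans n.lt_succ_self)).2, fun b => ?_⟩, ?_⟩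
    · obtain ⟨y₃, rfl⟩ := Ext.covariant_sequence_exact₁ (L.obj X) hS b (Ext.eq_zero_of_injective _) rfl
      obtain ⟨x₃, rfl⟩ := hb.2 y₃
      exact ⟨x₃.comp hRS.extClass rfl, adjMap_extClass adj X hS hRS n x₃⟩
    · refine (injective_iff_map_eq_zero _).2 fun a ha => ?_
      obtain ⟨x₃, rfl⟩ := Ext.covariant_sequence_exact₁ X hRS a (Ext.eq_zero_of_injective _) rfl
      replace ha := (adjMap_extClass adj X hS hRS (n + 1) x₃).symm.trans ha
      obtain ⟨z, hz⟩ := Ext.covariant_sequence_exact₃ _ hS (adjMap adj X S.X₃ (n + 1) x₃) rfl ha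
      rw [Ext.eq_zero_of_injective z, Ext.zero_comp] at hz
      rw [hi (hz.symm.trans (map_zero _).symm), Ext.zero_comp]

omit [EnoughInjectives B] in
include hS in
/-- A morphism killing the image of `R S₂` kills every morphism from `X`, if pullback is surjective in degree one. -/
theorem comp_eq_zero_of_surjective [Injective S.X₂] (hsurj : Function.Surjective (adjMap adj X S.X₁ 1))
    {D : A} (π : R.obj S.X₃ ⟶ D) (hπ : R.map S.g ≫ π = 0) (c : X ⟶ R.obj S.X₃) : c ≫ π = 0 := by
  obtain ⟨hT, hb⟩ := imgSeq_shortExact adj hS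
  haveI : Injective (imgSeq (R := R) S).X₂ := by
    haveI : L.PreservesMonomorphisms := preservesMonomorphisms_of_preservesLimitsOfShape L
    exact Injective.injective_of_adjoint adj S.X₂
  obtain ⟨e, he⟩ := hsurj ((Ext.mk₀ ((adj.homEquiv X S.X₃).symm c)).comp hS.extClass (zero_add 1))
  obtain ⟨c', rfl⟩ := Ext.covariant_sequence_exact₁ X hT e (Ext.eq_zero_of_injective _) (rfl : 0 + 1 = 1)
  obtain ⟨c', rfl⟩ := (Ext.mk₀_bijective _ _).2 c'
  replace he := (adjMap_img adj X hS rfl hT c').symm.trans he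
  have h0 : (Ext.mk₀ ((adj.homEquiv X S.X₃).symm c - (adj.homEquiv X S.X₃).symm (c' ≫ imgCmp (R := R) S))).comp
      hS.extClass (zero_add 1) = 0 := by
    rw [sub_eq_add_neg, Ext.mk₀_add, Ext.mk₀_neg, Ext.add_comp, Ext.neg_comp, he, add_neg_cancel]
  obtain ⟨z, hz⟩ := Ext.covariant_sequence_exact₃ _ hS _ rfl h0
  obtain ⟨z, rfl⟩ := (Ext.mk₀_bijective _ _).2 z
  rw [Ext.mk₀_comp_mk₀] at hz
  have hz' := congrArg (fun t => adj.homEquiv X S.X₃ t) ((Ext.mk₀_bijective _ _).1 hz)
  dsimp only at hz'
  rw [Adjunction.homEquiv_naturality_right, show (adj.homEquiv X S.X₃)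
      ((adj.homEquiv X S.X₃).symm c - (adj.homEquiv X S.X₃).symm (c' ≫ imgCmp (R := R) S)) =
        c - c' ≫ imgCmp (R := R) S from by
      simp [Adjunction.homEquiv_unit, Adjunction.homEquiv_counit, Functor.map_sub]] at hz'
  have hbπ : imgCmp (R := R) S ≫ π = 0 := by
    rw [← cancel_epi (cokernel.π (R.map S.f))]
    simpa using hπ
  have := congrArg (· ≫ π) hz'
  simpa [hπ, hbπ] using this.symm

omit [EnoughInjectives B] in
include hS in
/-- Surjectivity passes to the cokernel in one degree less. -/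
theorem surjective_shift (hRS : (S.map R).ShortExact) [Injective S.X₂] (m : ℕ)
    (hI : Function.Surjective (adjMap adj X S.X₂ m))
    (hsurj : Function.Surjective (adjMap adj X S.X₁ (m + 1))) : Function.Surjective (adjMap adj X S.X₃ m) := by
  intro y
  haveI : Injective (S.map R).X₂ := by
    haveI : L.PreservesMonomorphisms := preservesMonomorphisms_of_preservesLimitsOfShape L
    exact Injective.injective_of_adjoint adj S.X₂
  obtain ⟨e, he⟩ := hsurj (y.comp hS.extClass rfl)
  obtain ⟨x₃, rfl⟩ := Ext.covariant_sequence_exact₁ X hRS e (Ext.eq_zero_of_injective _) rfl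
  replace he := (adjMap_extClass adj X hS hRS m x₃).symm.trans he
  have h0 : (y - adjMap adj X S.X₃ m x₃).comp hS.extClass rfl = 0 := by
    rw [sub_eq_add_neg, Ext.add_comp, Ext.neg_comp, he, add_neg_cancel]
  obtain ⟨z, hz⟩ := Ext.covariant_sequence_exact₃ _ hS _ rfl h0
  obtain ⟨w, rfl⟩ := hI z
  refine ⟨@id (Ext.{w} X (R.obj S.X₃) m) x₃ + w.comp (Ext.mk₀ (R.map S.g)) (add_zero m), ?_⟩
  rw [map_add, adjMap_naturality, hz]
  dsimp only [id]
  abel

end GrothLib.AcyN18
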