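import Groth.Agent.Lib.EtSec.AbSecs
import Groth.Agent.Lib.EtSec.Pull

/-!
# The unit of inverse and direct image in terms of relative sections
-/

set_option autoImplicit false
set_option backward.isDefEq.respectTransparency false
set_option backward.isDefEq.respectTransparency.types false

universe u

open CategoryTheory CategoryTheory.Limits AlgebraicGeometry Opposite
open GrothLib.EtSite GrothLib.EtSec

noncomputable section

namespace GrothLib.AcyN18

variable {S Z : Scheme.{u}} {a : Z ⟶ S}

/-- Functoriality of relative sections in the sheaf. -/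
def mapSecs {F G : EtDesc.Sh S} (ψ : F ⟶ G) (σ : Secs a F) : Secs a G where
  val Ω _ _ p η h := (stalkSh η).map ψ (σ.val Ω p η h)
  loc z := by
    obtain ⟨V, v, hv, z', W, m, hm, t, hz, ht⟩ := σ.loc z
    refine ⟨V, v, hv, z', W, m, hm, ψ.hom.app (op W) t, hz, fun Ω _ _ q η h => ?_⟩
    refine (congrArg ((stalkSh η).map ψ) (ht Ω q η h)).trans ?_
    exact (Scheme.pointSmallEtale η).toPresheafFiber_naturality_apply ψ.hom _ _ _

theorem mapSecs_bijective {F G : EtDesc.Sh S} (ψ : F ⟶ G) [IsIso ψ] :
    Function.Bijective (mapSecs (a := a) ψ) := by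
  refine Function.bijective_iff_has_inverse.2 ⟨mapSecs (inv ψ), fun σ => ?_, fun σ => ?_⟩
  · refine Secs.ext' fun Ω _ _ p η h => ?_
    change (stalkSh η).map (inv ψ) ((stalkSh η).map ψ (σ.val Ω p η h)) = _
    rw [← ConcreteCategory.comp_apply, ← Functor.map_comp, IsIso.hom_inv_id, CategoryTheory.Functor.map_id]
    rfl
  · refine Secs.ext' fun Ω _ _ p η h => ?_
    change (stalkSh η).map ψ ((stalkSh η).map (inv ψ) (σ.val Ω p η h)) = _
    rw [← ConcreteCategory.comp_apply, ← Functor.map_comp, IsIso.inv_hom_id, CategoryTheory.Functor.map_id]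
    rfl

theorem mapSecs_res {F G : EtDesc.Sh S} (ψ : F ⟶ G) {Z' : Scheme.{u}} (b : Z' ⟶ Z) {a' : Z' ⟶ S}
    (e : b ≫ a = a') (σ : Secs a F) : mapSecs ψ (σ.res b e) = (mapSecs ψ σ).res b e := rfl

theorem res_bijective_of_isIso {F : EtDesc.Sh S} {Z' : Scheme.{u}} (b : Z' ⟶ Z) [IsIso b] {a' : Z' ⟶ S}
    (e : b ≫ a = a') : Function.Bijective (fun σ : Secs a F => σ.res b e) := by
  refine Function.bijective_iff_has_inverse.2
    ⟨fun τ => τ.res (inv b) (by rw [← e, IsIso.inv_hom_id_assoc]), fun σ => ?_, fun σ => ?_⟩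
  · refine (Secs.res_comp b e (inv b) _ σ).trans ((Secs.res_congr (IsIso.inv_hom_id b) _ (Category.id_comp a) σ).trans ?_)
    exact Secs.res_id σ
  · refine (Secs.res_comp (inv b) _ b e σ).trans ((Secs.res_congr (IsIso.hom_inv_id b) _ (Category.id_comp a') σ).trans ?_)
    exact Secs.res_id σ

variable {X : Scheme.{u}} (h : X ⟶ S) (F : EtCoh.Ab S)

/-- The unit on sections is restriction of relative sections. -/
theorem unit_app_bijective_iff (U : S.Etale) :
    Function.Bijective (((EtCoh.pullPushAdj h).unit.app F).hom.app (op U)) ↔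
      Function.Bijective (fun σ : Secs U.hom (forgetSh F) =>
        σ.res (pullback.fst U.hom h) (bc_cond h U)) := by
  have e : ∀ t : EtCoh.sect F U,
      toSecsAb h F (((EtCoh.pullPushAdj h).unit.app F).hom.app (op U) t) =
        (secOf (forgetSh F) t).res (pullback.fst U.hom h) (bc_cond h U) := fun t => by
    rw [toSecsAb_unit, secOf, Secs.res_ofSect]
    exact Secs.ext' fun Ω _ _ p η hp => gSh_congr (congrArg (p ≫ ·) (Category.comp_id _).symm) _ _ _
  let r : Secs U.hom (forgetSh F) → Secs (((EtCoh.bc h).obj U).hom ≫ h) (forgetSh F) :=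
    fun σ => σ.res (pullback.fst U.hom h) (bc_cond h U)
  have e' : (toSecsAb h F) ∘ ⇑(((EtCoh.pullPushAdj h).unit.app F).hom.app (op U)) =
      r ∘ secOf (forgetSh F) := funext e
  have h1 := Function.Bijective.of_comp_iff' (toSecsAb_bijective h F ((EtCoh.bc h).obj U))
    ⇑(((EtCoh.pullPushAdj h).unit.app F).hom.app (op U))
  rw [e'] at h1
  exact h1.symm.trans (Function.Bijective.of_comp_iff r (secOf_bijective (forgetSh F) U))

variable {h F}

/-- Bijectivity of the unit at an etale scheme from bijectivity at the top of that scheme. -/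
theorem unit_app_bijective_of_local (U : S.Etale)
    (H : Function.Bijective (((EtCoh.pullPushAdj (pullback.fst U.hom h)).unit.app
      ((EtCoh.pull U.hom).obj F)).hom.app (op (EtCoh.top U.left)))) :
    Function.Bijective (((EtCoh.pullPushAdj h).unit.app F).hom.app (op U)) := by
  let j : U.left ⟶ S := U.hom
  let pa : pullback j h ⟶ U.left := pullback.fst j h
  let U₀ : U.left.Etale := EtCoh.top U.left
  rw [unit_app_bijective_iff] at H ⊢
  haveI : IsIso U₀.hom := inferInstanceAs (IsIso (𝟙 U.left))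
  haveI : IsIso (pullback.snd U₀.hom pa) := inferInstance
  let Ψ : ∀ {Z : Scheme.{u}} (c : Z ⟶ U.left),
      Secs c (forgetSh ((EtCoh.pull j).obj F)) → Secs (c ≫ j) (forgetSh F) :=
    fun c σ => secsPull j (forgetSh F) c (mapSecs (inv (cmp j F)) σ)
  have hΨ : ∀ {Z : Scheme.{u}} (c : Z ⟶ U.left), Function.Bijective (Ψ c) := fun c =>
    (secsPull_bijective j (forgetSh F) c).comp (mapSecs_bijective _)
  let T := pullback U₀.hom pa
  let c' : T ⟶ U.left := ((EtCoh.bc pa).obj U₀).hom ≫ pa
  let b : T ⟶ U₀.left := pullback.fst U₀.hom pa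
  have hb : b ≫ U₀.hom = c' := bc_cond pa U₀
  have hbj : b ≫ U₀.hom ≫ j = c' ≫ j := by rw [← Category.assoc, hb]
  have H' : Function.Bijective (fun σ : Secs (U₀.hom ≫ j) (forgetSh F) => σ.res b hbj) := by
    refine (Function.Bijective.of_comp_iff _ (hΨ U₀.hom)).1 ?_
    have e : (fun σ : Secs (U₀.hom ≫ j) (forgetSh F) => σ.res b hbj) ∘ Ψ U₀.hom =
        Ψ c' ∘ (fun σ => σ.res b hb) := funext fun σ => by
      change (secsPull j (forgetSh F) U₀.hom (mapSecs (inv (cmp j F)) σ)).res b hbj =
        secsPull j (forgetSh F) c' (mapSecs (inv (cmp j F)) (σ.res b hb))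
      rw [mapSecs_res, secsPull_res]
    rw [e]
    exact (hΨ c').comp H
  -- compare with the restriction along the projection
  let q : Secs j (forgetSh F) → Secs (((EtCoh.bc h).obj U).hom ≫ h) (forgetSh F) :=
    fun σ => σ.res pa (bc_cond h U)
  change Function.Bijective q
  have h0 : U₀.hom ≫ j = U₀.hom ≫ j := rfl
  have hs : pullback.snd U₀.hom pa ≫ ((EtCoh.bc h).obj U).hom ≫ h = c' ≫ j :=
    (congrArg (pullback.snd U₀.hom pa ≫ ·) (bc_cond h U).symm).trans (Category.assoc _ _ _).symm
  refine (Function.Bijective.of_comp_iff' (res_bijective_of_isIso (pullback.snd U₀.hom pa) hs) q).1 ?_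
  refine (congrArg Function.Bijective (funext fun σ : Secs j (forgetSh F) => ?_)).mp
    (H'.comp (res_bijective_of_isIso (a := j) (F := forgetSh F) U₀.hom h0))
  change (σ.res U₀.hom h0).res b hbj = (σ.res pa (bc_cond h U)).res (pullback.snd U₀.hom pa) hs
  rw [Secs.res_comp, Secs.res_comp]
  exact Secs.res_congr (pullback.condition : b ≫ U₀.hom = _) _ _ σ

end GrothLib.AcyN18
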