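import Groth.Agent.Lib.AcyN18.Adj
import Groth.Agent.Lib.AcyN18.Secs
import Groth.Agent.Lib.EtDer.AcyclicComp
import Groth.Agent.Lib.EtDer.Injective
import Groth.Agent.Lib.EtColim.Cohomology

/-!
# `n`-acyclic morphisms in terms of units and higher direct images
-/

set_option autoImplicit false
set_option backward.isDefEq.respectTransparency false
set_option backward.isDefEq.respectTransparency.types false
set_option linter.style.haveILetI false
set_option linter.all false

universe u

open CategoryTheory CategoryTheory.Limits CategoryTheory.Abelian AlgebraicGeometry Opposite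
open GrothLib.ExtAdj GrothLib.EtColim GrothLib.SheafCoh

noncomputable section

namespace GrothLib.AcyN18

section basics

variable {X Y : Scheme.{u}} (f : X ⟶ Y)

theorem pushAdd : (EtCoh.push f).Additive :=
  (EtCoh.pullPushAdj f).right_adjoint_additive

theorem bijective_preMk₀ {A A' B : EtCoh.Ab X} (e : A ≅ A') (q : ℕ) :
    Function.Bijective (fun z : Ext.{u + 1} A' B q => (Ext.mk₀ e.hom).comp z (zero_add q)) := by
  refine Function.bijective_iff_has_inverse.2 ⟨fun z => (Ext.mk₀ e.inv).comp z (zero_add q),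
    fun z => ?_, fun z => ?_⟩ <;> simp

variable [PreservesFiniteLimits (EtCoh.pull f)] [(EtCoh.push f).Additive]

theorem Hpull_eq (F : EtCoh.Ab Y) (q : ℕ) (x : EtCoh.H Y F q) :
    EtCore.Hpull f F q x = (Ext.mk₀ (EtCore.pullConst f ℤ).inv).comp
      (adjMap (EtCoh.pullPushAdj f) _ ((EtCoh.pull f).obj F) q
        (x.comp (Ext.mk₀ ((EtCoh.pullPushAdj f).unit.app F)) (add_zero q))) (zero_add q) := by
  rw [adjMap_apply, Ext.mapExactFunctor_comp, Ext.mapExactFunctor_mk₀, Ext.comp_assoc_of_second_deg_zero,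
    Ext.mk₀_comp_mk₀, (EtCoh.pullPushAdj f).left_triangle_components, Ext.comp_mk₀_id]
  rfl

/-- Comparison from units and higher direct images. -/
theorem compN_of (L : Set ℕ) (n : ℕ)
    (h : ∀ F : EtCoh.Ab Y, EtAcyc.IsLTorsion L F → IsIso ((EtCoh.pullPushAdj f).unit.app F) ∧
      ∀ q : ℕ, 1 ≤ q → q ≤ n → IsZero ((EtCoh.Rpush f q).obj ((EtCoh.pull f).obj F))) :
    EtAcyc.CompN f L n := by
  intro F hF _
  obtain ⟨hu, hR⟩ := h F hF
  have hq : ∀ q : ℕ, q ≤ n → Function.Bijective (adjMap (EtCoh.pullPushAdj f) (EtCoh.const Y ℤ) ((EtCoh.pull f).obj F) q) ∧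
      Function.Injective (adjMap (EtCoh.pullPushAdj f) (EtCoh.const Y ℤ) ((EtCoh.pull f).obj F) (q + 1)) :=
    fun q hqn => adjMap_range (EtCoh.pullPushAdj f) _ q _ fun r hr => hR (r + 1) r.succ_pos (by omega)
  have e : ∀ q, ⇑(EtCore.Hpull f F q) = (fun z : Ext.{u + 1} _ _ q => (Ext.mk₀ (EtCore.pullConst f ℤ).inv).comp z (zero_add q)) ∘
      ⇑(adjMap (EtCoh.pullPushAdj f) (EtCoh.const Y ℤ) ((EtCoh.pull f).obj F) q) ∘
        (fun x : EtCoh.H Y F q => x.comp (Ext.mk₀ ((EtCoh.pullPushAdj f).unit.app F)) (add_zero q)) :=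
    fun q => funext fun x => Hpull_eq f F q x
  have hB : ∀ q, Function.Bijective (fun x : EtCoh.H Y F q =>
      x.comp (Ext.mk₀ ((EtCoh.pullPushAdj f).unit.app F)) (add_zero q)) :=
    fun q => GrothLib.EtDer.bijective_comp_mk₀ (asIso ((EtCoh.pullPushAdj f).unit.app F)) q
  refine ⟨fun q hqn => ?_, ?_⟩
  · rw [e]
    exact (bijective_preMk₀ (EtCore.pullConst f ℤ).symm q).comp ((hq q hqn).1.comp (hB q))
  · rw [e]
    exact (bijective_preMk₀ (EtCore.pullConst f ℤ).symm _).1.comp ((hq n le_rfl).2.comp (hB _).1)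

theorem bijective_unit_top (F : EtCoh.Ab Y) (h : Function.Bijective (EtCore.Hpull f F 0)) :
    Function.Bijective (((EtCoh.pullPushAdj f).unit.app F).hom.app (op (EtCoh.top Y))) := by
  let u := (EtCoh.pullPushAdj f).unit.app F
  have e : ⇑(EtCore.Hpull f F 0) = (fun z : Ext.{u + 1} _ _ 0 => (Ext.mk₀ (EtCore.pullConst f ℤ).inv).comp z (zero_add 0)) ∘
      ⇑(adjMap (EtCoh.pullPushAdj f) (EtCoh.const Y ℤ) ((EtCoh.pull f).obj F) 0) ∘
        (fun x : EtCoh.H Y F 0 => x.comp (Ext.mk₀ u) (add_zero 0)) :=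
    funext fun x => Hpull_eq f F 0 x
  rw [e] at h
  have h1 := (Function.Bijective.of_comp_iff' (bijective_preMk₀ (EtCore.pullConst f ℤ).symm 0) _).1 h
  have h2 := (Function.Bijective.of_comp_iff' (bijective_adjMap_zero (EtCoh.pullPushAdj f) _ _) _).1 h1
  have h3 : Function.Bijective (fun a : Z Y ⟶ F => a ≫ u) := by
    refine (Function.Bijective.of_comp_iff' (Ext.mk₀_bijective _ _) _).1 ?_
    have e' : (fun a : Z Y ⟶ F => Ext.mk₀.{u + 1} (a ≫ u)) =
        (fun x : EtCoh.H Y F 0 => x.comp (Ext.mk₀ u) (add_zero 0)) ∘ (fun a : Z Y ⟶ F => Ext.mk₀ a) :=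
      funext fun a => (Ext.mk₀_comp_mk₀ a u).symm
    exact (congrArg Function.Bijective e').mpr (h2.comp (Ext.mk₀_bijective _ _))
  refine (Function.Bijective.of_comp_iff _ (bijective_evOne F)).1 ?_
  have e'' : ⇑(u.hom.app (op (EtCoh.top Y))) ∘ evOne F = evOne _ ∘ fun a : Z Y ⟶ F => a ≫ u := funext fun a => rfl
  rw [e'']
  exact (bijective_evOne _).comp h3

end basics

section local'

variable {W V : Scheme.{u}} (h : W ⟶ V)

instance etale_snd (U : V.Etale) : Etale (pullback.snd U.hom h) :=
  MorphismProperty.pullback_snd (P := @Etale) U.hom h U.prop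

/-- Pullback to `U` is surjective in degree `q` on the restriction of `G`. -/
def SurjAt (U : V.Etale) (G : EtCoh.Ab W) (q : ℕ) : Prop :=
  ∀ [(EtCoh.push (pullback.fst U.hom h)).Additive] [PreservesFiniteLimits (EtCoh.pull (pullback.fst U.hom h))],
    Function.Surjective (adjMap (EtCoh.pullPushAdj (pullback.fst U.hom h)) (EtCoh.const U.left ℤ)
      ((EtCoh.pull (pullback.snd U.hom h)).obj G) q)

theorem surjective_adjMap_of_iso {X Y : Scheme.{u}} (a : X ⟶ Y) [PreservesFiniteLimits (EtCoh.pull a)]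
    [(EtCoh.push a).Additive] {G G' : EtCoh.Ab X} (e : G ≅ G') (q : ℕ)
    (hs : Function.Surjective (adjMap (EtCoh.pullPushAdj a) (EtCoh.const Y ℤ) G q)) :
    Function.Surjective (adjMap (EtCoh.pullPushAdj a) (EtCoh.const Y ℤ) G' q) := fun y => by
  obtain ⟨z, hz⟩ := hs (y.comp (Ext.mk₀ e.inv) (add_zero q))
  refine ⟨z.comp (Ext.mk₀ ((EtCoh.push a).map e.hom)) (add_zero q), ?_⟩
  rw [adjMap_naturality, hz, Ext.comp_assoc_of_second_deg_zero, Ext.mk₀_comp_mk₀, e.inv_hom_id, Ext.comp_mk₀_id]

theorem surjective_adjMap_of_Hpull {X Y : Scheme.{u}} (a : X ⟶ Y) [PreservesFiniteLimits (EtCoh.pull a)]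
    [(EtCoh.push a).Additive] (F : EtCoh.Ab Y) (q : ℕ) (hs : Function.Surjective (EtCore.Hpull a F q)) :
    Function.Surjective (adjMap (EtCoh.pullPushAdj a) (EtCoh.const Y ℤ) ((EtCoh.pull a).obj F) q) := fun y => by
  obtain ⟨x, hx⟩ := hs ((Ext.mk₀ (EtCore.pullConst a ℤ).inv).comp y (zero_add q))
  rw [Hpull_eq] at hx
  exact ⟨_, (bijective_preMk₀ (EtCore.pullConst a ℤ).symm q).1 hx⟩

/-- Surjectivity of pullback in low degrees kills higher direct images. -/
theorem isZero_Rpush_of_surjAt : ∀ (n : ℕ) (G : EtCoh.Ab W),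
    (∀ (U : V.Etale) (q : ℕ), 1 ≤ q → q ≤ n → SurjAt h U G q) →
      ∀ q : ℕ, 1 ≤ q → q ≤ n → IsZero ((EtCoh.Rpush h q).obj G) := by
  haveI := pushAdd h
  haveI : PreservesFiniteLimits (EtCoh.push h) :=
    ((EtCoh.pullPushAdj h).rightAdjoint_preservesLimits : PreservesLimitsOfSize.{0, 0} _).preservesFiniteLimits
  intro n
  induction n with
  | zero => intro G _ q h1 h2; omega
  | succ n ih =>
    intro G hG
    let S : ShortComplex (EtCoh.Ab W) := ShortComplex.mk (Injective.ι G) (cokernel.π (Injective.ι G)) (cokernel.condition _)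
    have hS : S.ShortExact := { exact := ShortComplex.exact_of_g_is_cokernel _ (cokernelIsCokernel _) }
    haveI : Injective S.X₂ := inferInstanceAs (Injective (Injective.under G))
    have h1 : IsZero ((EtCoh.Rpush h 1).obj G) := by
      refine IsZero.of_iso ?_ (GrothLib.HomGamma.shiftIsoOne hS (EtCoh.push h))
      refine IsZero.of_epi_eq_zero (cokernel.π ((EtCoh.push h).map S.g)) ?_
      let π := cokernel.π ((EtCoh.push h).map S.g)
      suffices hπ : ∀ U : V.Etale, π.hom.app (op U) = 0 by
        apply Sheaf.hom_ext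
        ext U : 2
        exact hπ U.unop
      intro U
      let a := pullback.fst U.hom h
      let j' := pullback.snd U.hom h
      haveI : Etale U.hom := U.prop
      haveI := GrothLib.Constructible.jcont U.hom
      haveI := GrothLib.Constructible.jcont j'
      haveI := pushAdd a
      haveI := GrothLib.EtDer.pullFL a
      haveI := GrothLib.EtDer.pullFL j'
      let sq : IsPullback j' a h U.hom := (IsPullback.of_hasPullback U.hom h).flip
      let β := GrothLib.ExtZero.pushRestrIso U.hom h j' a sq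
      haveI : PreservesFiniteLimits (EtShriek.restrAlong j') :=
        preservesFiniteLimits_of_natIso (GrothLib.ExtZero.restrIsoPull j').symm
      haveI : PreservesFiniteColimits (EtShriek.restrAlong j') :=
        preservesFiniteColimits_of_natIso (GrothLib.ExtZero.restrIsoPull j').symm
      haveI : (EtShriek.restrAlong j').Additive := Functor.additive_of_preserves_binary_products _
      have hS' := hS.map_of_exact (EtShriek.restrAlong j')
      haveI : Injective (S.map (EtShriek.restrAlong j')).X₂ :=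
        Injective.of_iso ((GrothLib.ExtZero.restrIsoPull j').app S.X₂).symm (GrothLib.EtDer.injective_pull_etale j' S.X₂)
      have hsurj : Function.Surjective (adjMap (EtCoh.pullPushAdj a) (EtCoh.const U.left ℤ)
          (S.map (EtShriek.restrAlong j')).X₁ 1) :=
        surjective_adjMap_of_iso a ((GrothLib.ExtZero.restrIsoPull j').app G).symm 1 (hG U 1 le_rfl (by omega))
      let π' : (EtCoh.push a).obj (S.map (EtShriek.restrAlong j')).X₃ ⟶
          (EtShriek.restrAlong U.hom).obj (cokernel ((EtCoh.push h).map S.g)) :=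
        β.inv.app S.X₃ ≫ (EtShriek.restrAlong U.hom).map π
      haveI : (EtShriek.restrAlong U.hom).PreservesZeroMorphisms := by
        haveI : PreservesFiniteLimits (EtShriek.restrAlong U.hom) :=
          haveI := GrothLib.EtDer.pullFL U.hom
          preservesFiniteLimits_of_natIso (GrothLib.ExtZero.restrIsoPull U.hom).symm
        haveI : (EtShriek.restrAlong U.hom).Additive := Functor.additive_of_preserves_binary_products _
        infer_instance
      have hπ' : (EtCoh.push a).map (S.map (EtShriek.restrAlong j')).g ≫ π' = 0 := by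
        change (EtShriek.restrAlong j' ⋙ EtCoh.push a).map S.g ≫ β.inv.app S.X₃ ≫ _ = 0
        rw [← Category.assoc, β.inv.naturality, Category.assoc]
        change β.inv.app S.X₂ ≫ (EtShriek.restrAlong U.hom).map ((EtCoh.push h).map S.g) ≫ _ = 0
        rw [← Functor.map_comp, cokernel.condition, Functor.map_zero, comp_zero]
      let U' : V.Etale := (EtShriek.compEtale U.hom).obj (EtCoh.top U.left)
      have hU' : π.hom.app (op U') = 0 := by
        ext s
        let RQ : EtCoh.Ab V := (EtCoh.push h).obj S.X₃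
        obtain ⟨c, hc⟩ := (bijective_evOne ((EtShriek.restrAlong U.hom).obj RQ)).2 s
        have := comp_eq_zero_of_surjective (EtCoh.pullPushAdj a) (EtCoh.const U.left ℤ) hS' hsurj π' hπ' (c ≫ β.hom.app S.X₃)
        rw [Category.assoc, Iso.hom_inv_id_app_assoc] at this
        have h2 : evOne _ (c ≫ (EtShriek.restrAlong U.hom).map π) = π.hom.app (op U') s := congrArg (π.hom.app (op U')) hc
        rw [← h2, this]
        rfl
      let e : U' ⟶ U := MorphismProperty.Over.homMk (𝟙 U.left) rfl
      let e' : U ⟶ U' := MorphismProperty.Over.homMk (𝟙 U.left) (by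
        change 𝟙 _ ≫ 𝟙 _ ≫ U.hom = U.hom
        simp)
      have he : e' ≫ e = 𝟙 U := MorphismProperty.Over.Hom.ext (Category.comp_id (𝟙 U.left))
      have hn := π.hom.naturality e.op
      rw [hU', comp_zero] at hn
      have h3 := congrArg (fun t => t ≫ (cokernel ((EtCoh.push h).map S.g)).obj.map e'.op) hn
      simp only [zero_comp, Category.assoc, ← Functor.map_comp, ← op_comp, he, op_id, CategoryTheory.Functor.map_id,
        Category.comp_id] at h3
      exact h3.symm
    intro q hq1 hqn
    obtain rfl | ⟨r, rfl⟩ : q = 1 ∨ ∃ r, q = r + 2 := by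
      by_cases hq : q = 1
      · exact Or.inl hq
      · exact Or.inr ⟨q - 2, by omega⟩
    · exact h1
    refine IsZero.of_iso ?_ (GrothLib.HomGamma.shiftIso hS (EtCoh.push h) r)
    refine ih S.X₃ (fun U m hm1 hmn => ?_) (r + 1) r.succ_pos (by omega)
    intro _ _
    let a := pullback.fst U.hom h
    let j' := pullback.snd U.hom h
    haveI : Etale U.hom := U.prop
    haveI := GrothLib.Constructible.jcont U.hom
    haveI := GrothLib.Constructible.jcont j'
    haveI := GrothLib.EtDer.pullFL j'
    haveI := GrothLib.EtDer.pullFL U.hom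
    let sq : IsPullback j' a h U.hom := (IsPullback.of_hasPullback U.hom h).flip
    let β := GrothLib.ExtZero.pushRestrIso U.hom h j' a sq
    haveI : PreservesFiniteLimits (EtShriek.restrAlong j') :=
      preservesFiniteLimits_of_natIso (GrothLib.ExtZero.restrIsoPull j').symm
    haveI : PreservesFiniteColimits (EtShriek.restrAlong j') :=
      preservesFiniteColimits_of_natIso (GrothLib.ExtZero.restrIsoPull j').symm
    haveI : (EtShriek.restrAlong j').Additive := Functor.additive_of_preserves_binary_products _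
    haveI : PreservesFiniteColimits (EtShriek.restrAlong U.hom) :=
      preservesFiniteColimits_of_natIso (GrothLib.ExtZero.restrIsoPull U.hom).symm
    have hS' := hS.map_of_exact (EtShriek.restrAlong j')
    haveI : Injective (S.map (EtShriek.restrAlong j')).X₂ :=
      Injective.of_iso ((GrothLib.ExtZero.restrIsoPull j').app S.X₂).symm (GrothLib.EtDer.injective_pull_etale j' S.X₂)
    haveI : PreservesFiniteLimits (EtCoh.push a) :=
      ((EtCoh.pullPushAdj a).rightAdjoint_preservesLimits : PreservesLimitsOfSize.{0, 0} _).preservesFiniteLimits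
    haveI := hS'.mono_f
    haveI := hS'.epi_g
    haveI : Epi ((EtCoh.push h).map S.g) := GrothLib.HomGamma.epi_map_g_of_isZero hS (EtCoh.push h) h1
    haveI : Epi ((EtShriek.restrAlong j' ⋙ EtCoh.push a).map S.g) :=
      (NatIso.naturality_1 β S.g) ▸ (inferInstance : Epi (β.inv.app S.X₂ ≫ (EtShriek.restrAlong U.hom).map ((EtCoh.push h).map S.g) ≫ β.hom.app S.X₃))
    have hRS : ((S.map (EtShriek.restrAlong j')).map (EtCoh.push a)).ShortExact :=
      { exact := hS'.exact.map_of_mono_of_preservesKernel (EtCoh.push a) inferInstance inferInstance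
        mono_f := (EtCoh.push a).map_mono _
        epi_g := inferInstanceAs (Epi ((EtShriek.restrAlong j' ⋙ EtCoh.push a).map S.g)) }
    refine surjective_adjMap_of_iso a ((GrothLib.ExtZero.restrIsoPull j').app S.X₃) m ?_
    exact surjective_shift (EtCoh.pullPushAdj a) _ hS' hRS m
      (GrothLib.ExtAdj.bijective_adjMap (EtCoh.pullPushAdj a) _ m _
        (fun k => (EtCoh.push a).isZero_rightDerived_obj_injective_succ k _)).2
      (surjective_adjMap_of_iso a ((GrothLib.ExtZero.restrIsoPull j').app G).symm (m + 1) (hG U (m + 1) m.succ_pos (by omega)))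

/-- The criterion, from comparison on every etale scheme. -/
theorem unit_and_Rpush_of_compN (L : Set ℕ) (n : ℕ)
    (hU : ∀ U : V.Etale, EtAcyc.CompN (pullback.fst U.hom h) L n)
    (F : EtCoh.Ab V) (hF : EtAcyc.IsLTorsion L F) :
    IsIso ((EtCoh.pullPushAdj h).unit.app F) ∧
      ∀ q : ℕ, 1 ≤ q → q ≤ n → IsZero ((EtCoh.Rpush h q).obj ((EtCoh.pull h).obj F)) := by
  refine ⟨?_, isZero_Rpush_of_surjAt h n _ fun U q _ hq => ?_⟩
  · let u := (EtCoh.pullPushAdj h).unit.app F
    haveI : ∀ W' : V.Etaleᵒᵖ, IsIso (u.hom.app W') := fun W' => by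
      refine (ConcreteCategory.isIso_iff_bijective _).2 ?_
      let a := pullback.fst W'.unop.hom h
      haveI := GrothLib.EtDer.pullFL a
      haveI := pushAdd a
      exact unit_app_bijective_of_local W'.unop (bijective_unit_top a _
        ((hU W'.unop _ (GrothLib.EtDer.isLTorsion_pull _ L hF)).1 0 n.zero_le))
    haveI : IsIso u.hom := NatIso.isIso_of_isIso_app _
    haveI : IsIso ((sheafToPresheaf _ _).map u) := ‹IsIso u.hom›
    exact isIso_of_fully_faithful (sheafToPresheaf _ _) u
  · intro _ _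
    let a := pullback.fst U.hom h
    let j' := pullback.snd U.hom h
    let e : (EtCoh.pull a).obj ((EtCoh.pull U.hom).obj F) ≅ (EtCoh.pull j').obj ((EtCoh.pull h).obj F) :=
      ((EtCore.pullComp a U.hom).symm ≪≫ EtCore.pullCongr pullback.condition ≪≫ EtCore.pullComp j' h).app F
    exact surjective_adjMap_of_iso a e q (surjective_adjMap_of_Hpull a _ q
      ((hU U _ (GrothLib.EtDer.isLTorsion_pull _ L hF)).1 q hq).2)

end local'

/-- The two forms of `n`-acyclicity agree. -/
theorem isAcyclicN_iff {X Y : Scheme.{u}} (g : X ⟶ Y) (L : Set ℕ) (n : ℕ) :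
    EtAcyc.IsAcyclicN g L n ↔
      ∀ (V : Y.Etale) (F : EtCoh.Ab V.left), EtAcyc.IsLTorsion L F →
        IsIso ((EtCoh.pullPushAdj (EtAcyc.prj g V)).unit.app F) ∧
          ∀ q : ℕ, 1 ≤ q → q ≤ n →
            IsZero ((EtCoh.Rpush (EtAcyc.prj g V) q).obj ((EtCoh.pull (EtAcyc.prj g V)).obj F)) := by
  constructor
  · intro hg V F hF
    refine unit_and_Rpush_of_compN (EtAcyc.prj g V) L n (fun U => ?_) F hF
    haveI : Etale V.hom := V.prop
    let Uh : U.left ⟶ V.left := U.hom
    haveI : Etale Uh := U.prop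
    let U' : Y.Etale := Scheme.Etale.mk (Uh ≫ (V.hom : V.left ⟶ Y))
    let σ := (pullbackRightPullbackFstIso (V.hom : V.left ⟶ Y) g Uh).hom
    exact GrothLib.EtDer.compN_comp (pullbackRightPullbackFstIso_hom_fst (V.hom : V.left ⟶ Y) g Uh)
      (GrothLib.EtDer.compN_of_isIso σ L n) (hg U')
  · intro h V
    haveI := GrothLib.EtDer.pullFL (EtAcyc.prj g V)
    haveI := pushAdd (EtAcyc.prj g V)
    exact compN_of (EtAcyc.prj g V) L n (h V)

end GrothLib.AcyN18
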